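import Mathlib
import Groth.Prelude.Def_CurvBase
import Groth.Agent.SweepSix.GeomConn
import Groth.Agent.S2500
import Groth.Agent.S2150

/-! Criteria for geometric irreducibility over a field. -/

set_option autoImplicit false
set_option linter.style.haveILetI false
universe u

open CategoryTheory CategoryTheory.Limits AlgebraicGeometry TensorProduct Topology

noncomputable section

namespace GeomIrrLib

open ConnBC

variable {k : Type u} [Field k] {X : Scheme.{u}} (f : X ⟶ Spec (CommRingCat.of k))

theorem irreducibleSpace_of_surjective {α β : Type*} [TopologicalSpace α] [TopologicalSpace β] [IrreducibleSpace α]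
    (g : α → β) (hg : Continuous g) (hs : Function.Surjective g) : IrreducibleSpace β :=
  (irreducibleSpace_def β).mpr (by
    have := (IrreducibleSpace.isIrreducible_univ α).image g hg.continuousOn
    rwa [Set.image_univ, hs.range_eq] at this)

theorem irreducibleSpace_bc (K : Type u) [Field K] [Algebra k K] [GeometricallyIrreducible f] :
    IrreducibleSpace ↥(BC f K) :=
  GeometricallyIrreducible.geometrically_irreducibleSpace _ _ _ (.of_hasPullback _ _)

/-- Geometric irreducibility can be tested on an algebraically closed extension. -/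
theorem gi_of_irreducible_bc (K : Type u) [Field K] [Algebra k K] [IsAlgClosed K] [IrreducibleSpace ↥(BC f K)] :
    GeometricallyIrreducible f := by
  haveI := Groth.Agent.S2500.result (k := K) (pullback.snd f (Spec.map (CommRingCat.ofHom (algebraMap k K))))
  exact SweepSix.GeomConn.gi_of_bc f K

theorem gi_iff_forall :
    GeometricallyIrreducible f ↔
      ∀ (K : Type u) [Field K] [Algebra k K], IrreducibleSpace ↥(BC f K) := by
  refine ⟨fun _ K _ _ => irreducibleSpace_bc f K, fun h => ?_⟩
  haveI := h (AlgebraicClosure k)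
  exact gi_of_irreducible_bc f (AlgebraicClosure k)

theorem universallyInjective_specMap (K L : Type u) [Field K] [Field L] [Algebra K L] [IsPurelyInseparable K L] :
    UniversallyInjective (Spec.map (CommRingCat.ofHom (algebraMap K L))) := by
  rw [UniversallyInjective.iff_diagonal]
  have h := PrimeSpectrum.isHomeomorph_comap_of_isPurelyInseparable K L L
  haveI : Subsingleton ↥(pullback (Spec.map (CommRingCat.ofHom (algebraMap K L)))
      (Spec.map (CommRingCat.ofHom (algebraMap K L)))) := by
    haveI : Subsingleton (PrimeSpectrum (L ⊗[K] L)) := h.injective.subsingleton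
    haveI : Subsingleton ↥(Spec (CommRingCat.of (L ⊗[K] L))) := this
    exact (pullbackSpecIso K L L).hom.homeomorph.injective.subsingleton
  exact ⟨fun y => ⟨(Classical.arbitrary (PrimeSpectrum L) : Spec (CommRingCat.of L)), Subsingleton.elim _ _⟩⟩

/-- The base change to the separable closure detects geometric irreducibility. -/
theorem gi_of_irreducible_sepClosure [IrreducibleSpace ↥(BC f (SeparableClosure k))] :
    GeometricallyIrreducible f := by
  let φ : SeparableClosure k →ₐ[k] AlgebraicClosure k := IntermediateField.val _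
  haveI : IsPurelyInseparable (SeparableClosure k) (AlgebraicClosure k) :=
    separableClosure.isPurelyInseparable k (AlgebraicClosure k)
  haveI : UniversallyInjective (chg f φ) := MorphismProperty.of_isPullback (isPullback_chg f φ).flip
    (universallyInjective_specMap (SeparableClosure k) (AlgebraicClosure k))
  haveI := chg_surjective f φ
  haveI := chg_universallyOpen f φ
  let e := Equiv.ofBijective _ ⟨(chg f φ).injective, (chg f φ).surjective⟩
  let h : ↥(BC f (AlgebraicClosure k)) ≃ₜ ↥(BC f (SeparableClosure k)) :=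
    e.toHomeomorphOfContinuousOpen (chg f φ).continuous (chg f φ).isOpenMap
  haveI : IrreducibleSpace ↥(BC f (AlgebraicClosure k)) := h.irreducibleSpace_iff.mpr ‹_›
  exact gi_of_irreducible_bc f (AlgebraicClosure k)

/-- Irreducibility of a base change is detected on finitely generated levels. -/
theorem irreducibleSpace_of_levels (K : Type u) [Field K] [Algebra k K]
    (h : ∀ S : Finset K, IrreducibleSpace ↥(BC f (lev (k := k) K S))) : IrreducibleSpace ↥(BC f K) := by
  classical
  have key : ∀ U : Set ↥(BC f K), IsOpen U → U.Nonempty → ∃ S : Finset K, ∃ U' : Set ↥(BC f (lev (k := k) K S)),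
      IsOpen U' ∧ U'.Nonempty ∧ chg f (lev (k := k) K S).val ⁻¹' U' ⊆ U := by
    intro U hU ⟨z, hz⟩
    obtain ⟨_, ⟨W, hW, rfl⟩, hzW, -⟩ := X.isBasis_affineOpens.exists_subset_of_mem_open
      (Set.mem_univ (pr f K z)) isOpen_univ
    replace hW : IsAffineOpen W := hW
    let R := Γ(X, W)
    obtain ⟨φ, hφ⟩ := Spec.map_surjective (hW.fromSpec ≫ f)
    algebraize [φ.hom]
    have hφ' : Spec.map (CommRingCat.ofHom (algebraMap k R)) = hW.fromSpec ≫ f := hφ
    obtain ⟨P, rfl⟩ := range_chart f R hW.fromSpec hφ' K (x := z) (by rw [hW.range_fromSpec]; exact hzW)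
    have hpre : IsOpen ((chart f R hW.fromSpec hφ' K) ⁻¹' U : Set (PrimeSpectrum (R ⊗[k] K))) :=
      hU.preimage (chart f R hW.fromSpec hφ' K).continuous
    obtain ⟨_, ⟨a, rfl⟩, hPa, haU⟩ :=
      PrimeSpectrum.isTopologicalBasis_basic_opens.exists_subset_of_mem_open
        (show (P : PrimeSpectrum (R ⊗[k] K)) ∈ (chart f R hW.fromSpec hφ' K) ⁻¹' U from hz) hpre
    obtain ⟨S, a', ha'⟩ : ∃ S : Finset K, a ∈ (Algebra.TensorProduct.map (AlgHom.id k R) (lev (k := k) K S).val).range := by
      suffices ∀ b : R ⊗[k] K, ∃ S : Finset K, ∀ S', S ⊆ S' →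
          b ∈ (Algebra.TensorProduct.map (AlgHom.id k R) (lev (k := k) K S').val).range by
        obtain ⟨S, hS⟩ := this a
        exact ⟨S, hS S subset_rfl⟩
      intro b
      induction b using TensorProduct.induction_on with
      | zero => exact ⟨∅, fun _ _ => zero_mem _⟩
      | tmul r c =>
        exact ⟨{c}, fun S' hS' => ⟨r ⊗ₜ ⟨c, IntermediateField.subset_adjoin k _ (hS' (Finset.mem_singleton_self c))⟩,
          by simp⟩⟩
      | add b c hb hc =>
        obtain ⟨S, hS⟩ := hb; obtain ⟨T, hT⟩ := hc
        exact ⟨S ∪ T, fun S' h' => add_mem (hS S' (Finset.union_subset_left h')) (hT S' (Finset.union_subset_right h'))⟩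
    let ψ := (Algebra.TensorProduct.map (AlgHom.id k R) (lev (k := k) K S).val).toRingHom
    let cL := chart f R hW.fromSpec hφ' (lev (k := k) K S)
    have hcomm : ∀ Q : PrimeSpectrum (R ⊗[k] K), chg f (lev (k := k) K S).val (chart f R hW.fromSpec hφ' K Q) =
        cL (PrimeSpectrum.comap ψ Q) := fun Q => by
      rw [← Scheme.Hom.comp_apply, chart_chg]
      rfl
    let D : Set (PrimeSpectrum (R ⊗[k] lev (k := k) K S)) := PrimeSpectrum.basicOpen a'
    refine ⟨S, cL '' D, cL.isOpenEmbedding.isOpenMap D (PrimeSpectrum.basicOpen a').2,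
      ⟨_, PrimeSpectrum.comap ψ P, ?_, rfl⟩, ?_⟩
    · show a' ∉ (PrimeSpectrum.comap ψ P).asIdeal
      intro hmem
      exact hPa (ha' ▸ hmem)
    · rintro y ⟨Q, hQ, hQy⟩
      have hy : pr f K y ∈ Set.range hW.fromSpec := by
        rw [show pr f K y = pr f (lev (k := k) K S) (chg f (lev (k := k) K S).val y) by rw [← Scheme.Hom.comp_apply, chg_fst],
          ← hQy, ← Scheme.Hom.comp_apply, chart_fst]
        exact ⟨_, rfl⟩
      obtain ⟨Q', rfl⟩ := range_chart f R hW.fromSpec hφ' K hy
      rw [hcomm] at hQy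
      have hQQ : Q = PrimeSpectrum.comap ψ Q' := cL.isOpenEmbedding.injective hQy
      refine haU ?_
      show a ∉ (Q' : PrimeSpectrum (R ⊗[k] K)).asIdeal
      rw [← ha']
      exact fun hmem => hQ (hQQ ▸ hmem)
  have hne : Nonempty ↥(BC f K) := by
    obtain ⟨y⟩ := (h ∅).toNonempty
    haveI := chg_surjective f (lev (k := k) K (∅ : Finset K)).val
    obtain ⟨x, -⟩ := (chg f (lev (k := k) K (∅ : Finset K)).val).surjective y
    exact ⟨x⟩
  haveI : PreirreducibleSpace ↥(BC f K) := by
    refine ⟨fun U V hU hV hUn hVn => ?_⟩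
    rw [Set.univ_inter] at hUn hVn ⊢
    obtain ⟨S, U', hU', ⟨y, hy⟩, hUU⟩ := key U hU hUn
    obtain ⟨T, V', hV', ⟨w, hw⟩, hVV⟩ := key V hV hVn
    have hS : lev (k := k) K S ≤ lev (k := k) K (S ∪ T) := IntermediateField.adjoin.mono k _ _ (by simp)
    have hT : lev (k := k) K T ≤ lev (k := k) K (S ∪ T) := IntermediateField.adjoin.mono k _ _ (by simp)
    haveI := h (S ∪ T)
    haveI := chg_surjective f (IntermediateField.inclusion hS)
    haveI := chg_surjective f (IntermediateField.inclusion hT)
    haveI := chg_surjective f (lev (k := k) K (S ∪ T)).val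
    obtain ⟨y₁, hy₁⟩ := (chg f (IntermediateField.inclusion hS)).surjective y
    obtain ⟨w₁, hw₁⟩ := (chg f (IntermediateField.inclusion hT)).surjective w
    obtain ⟨m, hm₁, hm₂⟩ := nonempty_preirreducible_inter (hU'.preimage (chg f (IntermediateField.inclusion hS)).continuous)
      (hV'.preimage (chg f (IntermediateField.inclusion hT)).continuous) ⟨y₁, by rwa [Set.mem_preimage, hy₁]⟩
      ⟨w₁, by rwa [Set.mem_preimage, hw₁]⟩
    obtain ⟨x, hx⟩ := (chg f (lev (k := k) K (S ∪ T)).val).surjective m
    refine ⟨x, hUU ?_, hVV ?_⟩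
    · rw [Set.mem_preimage, show (lev (k := k) K S).val = (lev (k := k) K (S ∪ T)).val.comp (IntermediateField.inclusion hS) from rfl,
        ← chg_comp, Scheme.Hom.comp_apply, hx]
      exact hm₁
    · rw [Set.mem_preimage, show (lev (k := k) K T).val = (lev (k := k) K (S ∪ T)).val.comp (IntermediateField.inclusion hT) from rfl,
        ← chg_comp, Scheme.Hom.comp_apply, hx]
      exact hm₂
  exact { toNonempty := hne }

/-- Finite separable extensions detect geometric irreducibility. -/
theorem gi_of_finite_separable (h : ∀ (k' : Type u) [Field k'] [Algebra k k'] [FiniteDimensional k k']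
    [Algebra.IsSeparable k k'], IrreducibleSpace ↥(BC f k')) : GeometricallyIrreducible f := by
  haveI : IrreducibleSpace ↥(BC f (SeparableClosure k)) := irreducibleSpace_of_levels f _ fun S => by
    haveI : FiniteDimensional k (lev (SeparableClosure k) S) :=
      IntermediateField.finiteDimensional_adjoin fun x _ => (Algebra.IsSeparable.isSeparable k x).isIntegral
    exact h (lev (SeparableClosure k) S)
  exact gi_of_irreducible_sepClosure f

section Affine

variable {A : Type u} [CommRing A] [Algebra k A]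

/-- The base change of an affine scheme is a tensor product. -/
def homeoTensor (K : Type u) [Field K] [Algebra k K] :
    ↥(BC (Spec.map (CommRingCat.ofHom (algebraMap k A))) K) ≃ₜ PrimeSpectrum (K ⊗[k] A) :=
  Scheme.homeoOfIso (pullbackSymmetry _ _ ≪≫ pullbackSpecIso k K A)

theorem irreducibleSpace_bc_iff (K : Type u) [Field K] [Algebra k K] :
    IrreducibleSpace ↥(BC (Spec.map (CommRingCat.ofHom (algebraMap k A))) K) ↔
      IrreducibleSpace (PrimeSpectrum (K ⊗[k] A)) :=
  (homeoTensor K).irreducibleSpace_iff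

/-- Geometric irreducibility of an affine scheme in terms of tensor products. -/
theorem gi_iff_tensor :
    GeometricallyIrreducible (Spec.map (CommRingCat.ofHom (algebraMap k A))) ↔
      ∀ (K : Type u) [Field K] [Algebra k K], IrreducibleSpace (PrimeSpectrum (K ⊗[k] A)) := by
  rw [gi_iff_forall]
  exact ⟨fun h K _ _ => (irreducibleSpace_bc_iff K).1 (h K), fun h K _ _ => (irreducibleSpace_bc_iff K).2 (h K)⟩

end Affine

section Generic

variable (K : Type u) [Field K] [Algebra k K]

theorem isPreimmersion_chart (R : Type u) [CommRing R] [Algebra k R] (ι : Spec (CommRingCat.of R) ⟶ X)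
    [IsPreimmersion ι] (hι : Spec.map (CommRingCat.ofHom (algebraMap k R)) = ι ≫ f) :
    IsPreimmersion (chart f R ι hι K) := by
  haveI : IsPreimmersion (pullback.map (Spec.map (CommRingCat.ofHom (algebraMap k R)))
      (Spec.map (CommRingCat.ofHom (algebraMap k K))) f (Spec.map (CommRingCat.ofHom (algebraMap k K))) ι (𝟙 _) (𝟙 _)
      (by rw [Category.comp_id, hι]) (by simp)) :=
    MorphismProperty.pullbackMap (P := @IsPreimmersion) (inferInstance : IsPreimmersion ι)
      (inferInstance : IsPreimmersion (𝟙 _)) hι (Category.id_comp _).symm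
  unfold chart
  infer_instance

theorem range_chart_eq (R : Type u) [CommRing R] [Algebra k R] (ι : Spec (CommRingCat.of R) ⟶ X)
    (hι : Spec.map (CommRingCat.ofHom (algebraMap k R)) = ι ≫ f) :
    Set.range (chart f R ι hι K) = pr f K ⁻¹' Set.range ι := by
  refine Set.Subset.antisymm ?_ fun x hx => range_chart f R ι hι K hx
  rintro _ ⟨Q, rfl⟩
  rw [Set.mem_preimage, ← Scheme.Hom.comp_apply, chart_fst]
  exact ⟨_, rfl⟩

/-- The base change of an irreducible scheme is irreducible iff that of its generic point is. -/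
theorem irreducibleSpace_bc_iff_generic [IrreducibleSpace X] (κ : Type u) [CommRing κ] [Algebra k κ]
    (ι : Spec (CommRingCat.of κ) ⟶ X) [IsPreimmersion ι] (hr : Set.range ι = {genericPoint X})
    (hk : Spec.map (CommRingCat.ofHom (algebraMap k κ)) = ι ≫ f) :
    IrreducibleSpace ↥(BC f K) ↔ IrreducibleSpace (PrimeSpectrum (κ ⊗[k] K)) := by
  haveI : IsPreimmersion (chart f κ ι hk K) := isPreimmersion_chart f K _ _ hk
  have hd : closure (Set.range (chart f κ ι hk K)) = Set.univ := by
    rw [range_chart_eq, hr, ← (pr f K).isOpenMap.preimage_closure_eq_closure_preimage (pr f K).continuous,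
      genericPoint_closure]
    rfl
  have h0 : IrreducibleSpace ↥(BC f K) ↔ IsIrreducible (Set.range (chart f κ ι hk K)) := by
    rw [irreducibleSpace_def, ← isIrreducible_iff_closure (s := Set.range (chart f κ ι hk K)), hd]
    rfl
  rw [h0, ← Set.image_univ, irreducibleSpace_def]
  constructor
  · intro h
    refine ⟨Set.image_nonempty.1 h.1, fun u v hu hv ⟨a, _, hau⟩ ⟨b, _, hbv⟩ => ?_⟩
    obtain ⟨u', hu', rfl⟩ := (chart f κ ι hk K).isEmbedding.isInducing.isOpen_iff.1 hu
    obtain ⟨v', hv', rfl⟩ := (chart f κ ι hk K).isEmbedding.isInducing.isOpen_iff.1 hv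
    obtain ⟨_, ⟨c, -, rfl⟩, hcu, hcv⟩ := h.2 u' v' hu' hv' ⟨_, ⟨a, trivial, rfl⟩, hau⟩ ⟨_, ⟨b, trivial, rfl⟩, hbv⟩
    exact ⟨c, trivial, hcu, hcv⟩
  · exact fun h => h.image _ (chart f κ ι hk K).continuous.continuousOn

omit [Field K] [Algebra k K] in
theorem gi_iff_generic [IrreducibleSpace X] (κ : Type u) [Field κ] [Algebra k κ]
    (ι : Spec (CommRingCat.of κ) ⟶ X) [IsPreimmersion ι] (hr : Set.range ι = {genericPoint X})
    (hk : Spec.map (CommRingCat.ofHom (algebraMap k κ)) = ι ≫ f) :
    GeometricallyIrreducible f ↔ ∀ a : κ, IsSeparable k a → a ∈ Set.range (algebraMap k κ) := by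
  rw [gi_iff_forall, ← Groth.Agent.S2150.result (k := k) (K := κ)]
  constructor
  · intro h K _ _
    exact (PrimeSpectrum.homeomorphOfRingEquiv
      (Algebra.TensorProduct.comm k κ K).toRingEquiv).irreducibleSpace_iff.1
        ((irreducibleSpace_bc_iff_generic f K κ ι hr hk).1 (h K))
  · intro h K _ _
    refine (irreducibleSpace_bc_iff_generic f K κ ι hr hk).2 ?_
    exact (PrimeSpectrum.homeomorphOfRingEquiv
      (Algebra.TensorProduct.comm k κ K).toRingEquiv).irreducibleSpace_iff.2 (h K)

end Generic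

theorem specMap_resMap [X.Over (Spec (CommRingCat.of k))] (x : X) :
    Spec.map (CommRingCat.ofHom (Curv2.resMap k X x)) =
      X.fromSpecResidueField x ≫ (X ↘ Spec (CommRingCat.of k)) := by
  change Spec.map ((Scheme.ΓSpecIso _).inv ≫ (X ↘ Spec (CommRingCat.of k)).appTop ≫
    X.presheaf.germ ⊤ x trivial ≫ X.residue x) = _
  simp only [Spec.map_comp, Category.assoc, Scheme.fromSpecResidueField]
  rw [← Scheme.fromSpecStalk_toSpecΓ, Category.assoc]
  congr 2
  rw [← Category.assoc, ← Scheme.toSpecΓ_naturality, Category.assoc,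
    toSpecΓ_SpecMap_ΓSpecIso_inv, Category.comp_id]

/-- Dense rational points force geometric irreducibility. -/
theorem gi_of_dense [IrreducibleSpace X] (D : Set X) (hD : Dense D)
    (hp : ∀ x ∈ D, ∀ (K : Type u) [Field K] [Algebra k K], (pr f K ⁻¹' {x}).Subsingleton) :
    GeometricallyIrreducible f := by
  rw [gi_iff_forall]
  intro K _ _
  have hne : Nonempty ↥(BC f K) := by
    obtain ⟨x⟩ := (inferInstance : Nonempty X)
    obtain ⟨y, -⟩ := (pr f K).surjective x
    exact ⟨y⟩
  haveI : PreirreducibleSpace ↥(BC f K) := by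
    refine ⟨fun U V hU hV hUn hVn => ?_⟩
    rw [Set.univ_inter] at hUn hVn ⊢
    have h1 := nonempty_preirreducible_inter ((pr f K).isOpenMap U hU) ((pr f K).isOpenMap V hV)
      (hUn.image _) (hVn.image _)
    obtain ⟨x, ⟨⟨a, ha, rfl⟩, ⟨b, hb, hba⟩⟩, hxD⟩ :=
      hD.inter_open_nonempty _ (((pr f K).isOpenMap U hU).inter ((pr f K).isOpenMap V hV)) h1
    exact ⟨a, ha, hp _ hxD K (show b ∈ pr f K ⁻¹' {pr f K a} from hba) rfl ▸ hb⟩
  exact { toNonempty := hne }

/-- An open cover by irreducible pairwise meeting sets gives an irreducible space. -/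
theorem irreducibleSpace_of_cover {α : Type*} [TopologicalSpace α] {ι : Type*} [Nonempty ι] (U : ι → Set α)
    (ho : ∀ i, IsOpen (U i)) (hc : ∀ x, ∃ i, x ∈ U i) (hp : ∀ i, IsIrreducible (U i))
    (hm : ∀ i j, (U i ∩ U j).Nonempty) : IrreducibleSpace α := by
  haveI : PreirreducibleSpace α := by
    refine ⟨fun u v hu hv ⟨a, _, hau⟩ ⟨b, _, hbv⟩ => ?_⟩
    obtain ⟨i, hai⟩ := hc a
    obtain ⟨j, hbj⟩ := hc b
    obtain ⟨c, hci, hcu, hcj⟩ := (hp i).2 u (U j) hu (ho j) ⟨a, hai, hau⟩ (hm i j)
    obtain ⟨e, -, heu, hev⟩ := (hp j).2 u v hu hv ⟨c, hcj, hcu⟩ ⟨b, hbj, hbv⟩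
    exact ⟨e, trivial, heu, hev⟩
  exact { toNonempty := ⟨(hp (Classical.arbitrary ι)).1.some⟩ }

end GeomIrrLib

end
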