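import Mathlib
import Groth.Agent.GeomIrrLib.Basic

/-! Geometric connectedness is detected on finite separable extensions. -/

set_option autoImplicit false
set_option linter.style.haveILetI false

universe u v w

namespace GeomIrrLib

section Tower

open Set Topology ConnBC

variable {T : Type u} [TopologicalSpace T] [PreconnectedSpace T] {Z : Type v} [TopologicalSpace Z] {π : Z → T}
  {ι : Type w} [Preorder ι] [IsDirected ι (· ≤ ·)] [Nonempty ι] (W : Tower π ι)

include W in
theorem preconnectedSpace_of_levels (hbasis : ∀ t : T, ∃ V : Set T, IsOpen V ∧ t ∈ V ∧ IsCompact V) (x : Z)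
    (hY : ∀ i, PreconnectedSpace (W.Y i)) : PreconnectedSpace Z := by
  classical
  choose Q hQ hxQ hQimg hQmin using fun i =>
    exists_min_clopen (W.q i) (W.q_open i) (W.q_closed i) (W.q_fin i) (W.p i x)
  -- transition images
  have hrQ : ∀ {i j} (h : i ≤ j), W.r h '' Q j = Q i := by
    intro i j h
    apply Subset.antisymm
    · rintro _ ⟨y, hy, rfl⟩
      exact hQmin j _ ((hQ i).preimage (W.r_cont h)) (show W.r h (W.p j x) ∈ Q i by rw [W.rp]; exact hxQ i) hy
    · refine hQmin i _ ⟨?_, W.r_open h _ (hQ j).2⟩ ⟨W.p j x, hxQ j, W.rp h x⟩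
      have : W.r h '' Q j = W.p i '' (W.p j ⁻¹' Q j) := by
        conv_lhs => rw [← image_preimage_eq (Q j) (W.p_surj j), image_image]
        simp only [W.rp]
      rw [this]
      exact (W.p_proper i).isClosedMap _ ((hQ j).1.preimage (W.p_proper j).continuous)
  let Qi : Set Z := ⋂ i, W.p i ⁻¹' Q i
  have hQicl : IsClosed Qi := isClosed_iInter fun i => (hQ i).1.preimage (W.p_proper i).continuous
  have hxQi : x ∈ Qi := mem_iInter.mpr fun i => hxQ i
  have hanti : ∀ {i j}, i ≤ j → W.p j ⁻¹' Q j ⊆ W.p i ⁻¹' Q i := fun h z hz => by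
    show W.p _ z ∈ Q _
    rw [← W.rp h z, ← hrQ h]
    exact ⟨_, hz, rfl⟩
  have hQsurj : ∀ i, W.p i '' Qi = Q i := by
    intro i
    refine Subset.antisymm (image_subset_iff.mpr (iInter_subset _ i)) fun y hy => ?_
    have hK : IsCompact (W.p i ⁻¹' {y}) := (W.p_proper i).isCompact_preimage isCompact_singleton
    by_contra hne
    obtain ⟨j, hj⟩ := hK.elim_directed_family_closed (fun j => W.p j ⁻¹' Q j)
      (fun j => (hQ j).1.preimage (W.p_proper j).continuous)
      (eq_empty_of_forall_notMem fun z hz => hne ⟨z, hz.2, hz.1⟩)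
      (fun a b => let ⟨c, hac, hbc⟩ := exists_ge_ge a b; ⟨c, hanti hac, hanti hbc⟩)
    obtain ⟨c, hic, hjc⟩ := exists_ge_ge i j
    obtain ⟨y', hy', rfl⟩ : y ∈ W.r hic '' Q c := by rw [hrQ hic]; exact hy
    obtain ⟨z, rfl⟩ := W.p_surj c y'
    exact (eq_empty_iff_forall_notMem.mp hj) z ⟨(W.rp hic z).symm, hanti hjc hy'⟩
  obtain ⟨i₀⟩ := ‹Nonempty ι›
  have hπQ : π '' Qi = univ := by
    rw [← hQimg i₀, ← hQsurj i₀, image_image]
    simp only [W.qp]
  have hQu : Qi = univ := eq_univ_of_forall fun z => mem_iInter.mpr fun i => by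
    haveI := hY i
    show W.p i z ∈ Q i
    rw [(hQ i).eq_univ ⟨_, hxQ i⟩]
    trivial
  suffices hconn : IsPreconnected Qi by
    exact ⟨hQu ▸ hconn⟩
  rw [isPreconnected_closed_iff]
  intro t t' ht ht' hsub htne ht'ne
  by_contra hdis
  let U := Qi ∩ t
  let U' := Qi ∩ t'
  have hUcl : IsClosed U := hQicl.inter ht
  have hU'cl : IsClosed U' := hQicl.inter ht'
  have hUU' : ∀ u ∈ U, u ∉ U' := fun u hu hu' => hdis ⟨u, hu.1, hu.2, hu'.2⟩
  have hcov : ∀ i, Q i ⊆ W.p i '' U ∪ W.p i '' U' := by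
    intro i y hy
    rw [← hQsurj i] at hy
    obtain ⟨z, hz, rfl⟩ := hy
    exact (hsub hz).elim (fun h => Or.inl ⟨z, ⟨hz, h⟩, rfl⟩) (fun h => Or.inr ⟨z, ⟨hz, h⟩, rfl⟩)
  have hsubQ : ∀ i {s : Set Z}, s ⊆ Qi → W.p i '' s ⊆ Q i := fun i s hs =>
    (image_mono hs).trans (hQsurj i).le
  -- disjointness at a finite level over a compact open
  have hfinite : ∀ V : Set T, IsCompact V → ∃ M, ∀ u ∈ U, π u ∈ V → W.p M u ∉ W.p M '' U' := by
    intro V hV
    by_contra hcon
    push Not at hcon
    have hK : IsCompact (π ⁻¹' V ∩ U) := (W.π_proper.isCompact_preimage hV).inter_right hUcl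
    have hne : ((π ⁻¹' V ∩ U) ∩ ⋂ M, W.p M ⁻¹' (W.p M '' U')).Nonempty := by
      rw [Set.nonempty_iff_ne_empty]
      intro hemp
      obtain ⟨M, hM⟩ := hK.elim_directed_family_closed _
        (fun M => ((W.p_proper M).isClosedMap _ hU'cl).preimage (W.p_proper M).continuous) hemp
        (fun a b => let ⟨c, hac, hbc⟩ := exists_ge_ge a b
          ⟨c, fun z ⟨w, hw, e⟩ => ⟨w, hw, by rw [← W.rp hac w, e, W.rp]⟩,
            fun z ⟨w, hw, e⟩ => ⟨w, hw, by rw [← W.rp hbc w, e, W.rp]⟩⟩)
      obtain ⟨u, huU, huV, hu⟩ := hcon M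
      exact (eq_empty_iff_forall_notMem.mp hM) u ⟨⟨huV, huU⟩, hu⟩
    obtain ⟨u, ⟨-, huU⟩, hu⟩ := hne
    rw [mem_iInter] at hu
    have hΦ : IsCompact (π ⁻¹' {π u}) := W.π_proper.isCompact_preimage isCompact_singleton
    let C : ι → Set Z := fun M => U' ∩ W.p M ⁻¹' closure {W.p M u}
    have hne2 : (π ⁻¹' {π u} ∩ ⋂ M, C M).Nonempty := by
      rw [Set.nonempty_iff_ne_empty]
      intro hemp
      obtain ⟨M, hM⟩ := hΦ.elim_directed_family_closed C
        (fun M => hU'cl.inter (isClosed_closure.preimage (W.p_proper M).continuous)) hemp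
        (fun a b => by
          obtain ⟨c, hac, hbc⟩ := exists_ge_ge a b
          refine ⟨c, fun z hz => ⟨hz.1, ?_⟩, fun z hz => ⟨hz.1, ?_⟩⟩
          · show W.p a z ∈ closure {W.p a u}
            have := image_closure_subset_closure_image (W.r_cont hac) ⟨_, hz.2, rfl⟩
            rwa [image_singleton, W.rp, W.rp] at this
          · show W.p b z ∈ closure {W.p b u}
            have := image_closure_subset_closure_image (W.r_cont hbc) ⟨_, hz.2, rfl⟩
            rwa [image_singleton, W.rp, W.rp] at this)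
      obtain ⟨w, hw, e⟩ := hu M
      refine (eq_empty_iff_forall_notMem.mp hM) w ⟨?_, hw, ?_⟩
      · show π w = π u
        rw [← W.qp M w, ← W.qp M u, e]
      · show W.p M w ∈ closure {W.p M u}
        rw [e]; exact subset_closure rfl
    obtain ⟨w, hwu, hw⟩ := hne2
    rw [mem_iInter] at hw
    have : w = u := W.sep w u fun M => W.q_incomp M _ _ (hw M).2 (by rw [W.qp, W.qp]; exact hwu)
    exact hUU' u huU (this ▸ (hw i₀).1)
  -- the bad locus at level `i`
  let S : ι → Set T := fun i => W.q i '' (W.p i '' U ∩ W.p i '' U')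
  have hSclopen : ∀ i, IsClopen (S i) := by
    intro i
    refine ⟨W.q_closed i _ (((W.p_proper i).isClosedMap _ hUcl).inter ((W.p_proper i).isClosedMap _ hU'cl)),
      isOpen_iff_forall_mem_open.mpr fun t₁ ht₁ => ?_⟩
    obtain ⟨V, hVo, hVt, hVc⟩ := hbasis t₁
    obtain ⟨M₀, hM₀⟩ := hfinite V hVc
    obtain ⟨M, hiM, hM₀M⟩ := exists_ge_ge i M₀
    have hdisM : ∀ y, W.q M y ∈ V → y ∈ W.p M '' U → y ∉ W.p M '' U' := by
      rintro _ hV' ⟨u, hu, rfl⟩ ⟨w, hw, e⟩
      rw [W.qp] at hV'
      exact hM₀ u hu hV' ⟨w, hw, by rw [← W.rp hM₀M w, e, W.rp]⟩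
    let A := W.p M '' U ∩ W.q M ⁻¹' V
    let B := W.p M '' U' ∩ W.q M ⁻¹' V
    have hA : IsOpen A := by
      rw [show A = (Q M \ W.p M '' U') ∩ W.q M ⁻¹' V from ?_]
      · exact ((hQ M).2.sdiff ((W.p_proper M).isClosedMap _ hU'cl)).inter (hVo.preimage (W.q_cont M))
      ext y
      refine ⟨fun ⟨h1, h2⟩ => ⟨⟨hsubQ M inter_subset_left h1, hdisM y h2 h1⟩, h2⟩, fun ⟨⟨h1, h1'⟩, h2⟩ =>
        ⟨(hcov M h1).resolve_right h1', h2⟩⟩
    have hB : IsOpen B := by
      rw [show B = (Q M \ W.p M '' U) ∩ W.q M ⁻¹' V from ?_]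
      · exact ((hQ M).2.sdiff ((W.p_proper M).isClosedMap _ hUcl)).inter (hVo.preimage (W.q_cont M))
      ext y
      refine ⟨fun ⟨h1, h2⟩ => ⟨⟨hsubQ M inter_subset_left h1, fun h => hdisM y h2 h h1⟩, h2⟩, fun ⟨⟨h1, h1'⟩, h2⟩ =>
        ⟨(hcov M h1).resolve_left h1', h2⟩⟩
    refine ⟨W.q i '' (W.r hiM '' A ∩ W.r hiM '' B), ?_,
      W.q_open i _ ((W.r_open hiM _ hA).inter (W.r_open hiM _ hB)), ?_⟩
    · apply image_mono
      rintro y ⟨⟨a, ⟨⟨u, hu, rfl⟩, -⟩, rfl⟩, ⟨b, ⟨⟨w, hw, rfl⟩, -⟩, e⟩⟩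
      exact ⟨⟨u, hu, (W.rp hiM u).symm⟩, ⟨w, hw, by rw [← e, W.rp]⟩⟩
    · obtain ⟨y, ⟨⟨u, hu, rfl⟩, ⟨w, hw, e⟩⟩, rfl⟩ := ht₁
      have huV : π u ∈ V := by rwa [W.qp] at hVt
      have hwV : π w ∈ V := by rw [← W.qp i w, e, W.qp]; exact huV
      refine ⟨W.p i u, ⟨⟨W.p M u, ⟨⟨u, hu, rfl⟩, ?_⟩, W.rp hiM u⟩,
        ⟨W.p M w, ⟨⟨w, hw, rfl⟩, ?_⟩, by rw [W.rp, e]⟩⟩, rfl⟩
      · show W.q M _ ∈ V
        rw [W.qp]; exact huV
      · show W.q M _ ∈ V
        rw [W.qp]; exact hwV
  -- globally disjoint at some level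
  obtain ⟨V, -, hVt, hVc⟩ := hbasis (π x)
  obtain ⟨M, hM⟩ := hfinite V hVc
  have hSM : S M = ∅ := by
    by_contra hne
    have := IsClopen.eq_univ (hSclopen M) (nonempty_iff_ne_empty.mpr hne)
    obtain ⟨y, ⟨⟨u, hu, rfl⟩, hy'⟩, e⟩ : π x ∈ S M := this ▸ mem_univ _
    exact hM u hu (by rw [← W.qp M u, e]; exact hVt) hy'
  have hdisj : ∀ y, y ∈ W.p M '' U → y ∉ W.p M '' U' := fun y h h' =>
    (eq_empty_iff_forall_notMem.mp hSM) _ ⟨y, ⟨h, h'⟩, rfl⟩
  have hAclopen : ∀ {s s' : Set Z}, IsClosed s → IsClosed s' → s ⊆ Qi → (Q M ⊆ W.p M '' s ∪ W.p M '' s') →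
      (∀ y, y ∈ W.p M '' s → y ∉ W.p M '' s') → IsClopen (W.p M '' s) := by
    intro s s' hs hs' hsQ hc hd
    refine ⟨(W.p_proper M).isClosedMap _ hs, ?_⟩
    rw [show W.p M '' s = Q M \ W.p M '' s' from Subset.antisymm (fun y h => ⟨hsubQ M hsQ h, hd y h⟩)
      fun y h => (hc h.1).resolve_right h.2]
    exact (hQ M).2.sdiff ((W.p_proper M).isClosedMap _ hs')
  obtain ⟨u, hu1, hu2⟩ := htne
  obtain ⟨w, hw1, hw2⟩ := ht'ne
  rcases hsub hxQi with hx | hx
  · have h := hQmin M _ (hAclopen hUcl hU'cl inter_subset_left (hcov M) hdisj) ⟨x, ⟨hxQi, hx⟩, rfl⟩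
    exact hdisj _ (h (hsubQ M inter_subset_left ⟨w, ⟨hw1, hw2⟩, rfl⟩)) ⟨w, ⟨hw1, hw2⟩, rfl⟩
  · have h := hQmin M _ (hAclopen hU'cl hUcl inter_subset_left ((hcov M).trans (union_comm _ _).le)
      fun y h h' => hdisj y h' h) ⟨x, ⟨hxQi, hx⟩, rfl⟩
    exact hdisj _ ⟨u, ⟨hu1, hu2⟩, rfl⟩ (h (hsubQ M inter_subset_left ⟨u, ⟨hu1, hu2⟩, rfl⟩))

end Tower

open CategoryTheory Limits AlgebraicGeometry TensorProduct Topology ConnBC

variable {k : Type u} [Field k] {X : Scheme.{u}} (f : X ⟶ Spec (CommRingCat.of k))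

theorem connectedSpace_bc_of_levels (K : Type u) [Field K] [Algebra k K] [Algebra.IsAlgebraic k K]
    (hlev : ∀ S : Finset K, ConnectedSpace ↥(BC f (lev (k := k) K S))) : ConnectedSpace ↥(BC f K) := by
  haveI : ConnectedSpace X := by
    haveI := hlev ∅
    exact (pr f (lev (k := k) K (∅ : Finset K))).surjective.connectedSpace (pr f (lev (k := k) K (∅ : Finset K))).continuous
  classical
  let h := pr f K
  let T : Set X := Set.univ
  have hTcl : IsClosed T := isClosed_univ
  haveI : PreconnectedSpace T := Subtype.preconnectedSpace isPreconnected_univ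
  let π : (h ⁻¹' T) → T := restr h rfl
  have hfin : ∀ S : Finset K, FiniteDimensional k (lev (k := k) K S) := fun S =>
    IntermediateField.finiteDimensional_adjoin fun x _ => (Algebra.IsAlgebraic.isAlgebraic x).isIntegral
  have hint : IsIntegralHom h := MorphismProperty.pullback_fst f _ (IsIntegralHom.SpecMap_iff.mpr
    (algebraMap_isIntegral_iff.mpr inferInstance))
  have hqfin : ∀ S : Finset K, IsFinite (pr f (lev (k := k) K S)) := fun S =>
    MorphismProperty.pullback_fst f _ ((IsFinite.SpecMap_iff _).mpr (by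
      exact RingHom.finite_algebraMap.mpr (hfin S)))
  have hchg : ∀ S, IsIntegralHom (chg f (lev (k := k) K S).val) := fun S => chg_isIntegralHom f _ fun x =>
    IsIntegral.tower_top (R := k) (Algebra.IsAlgebraic.isAlgebraic x).isIntegral
  let inc : ∀ {S S' : Finset K}, S ≤ S' → (lev (k := k) K S →ₐ[k] lev K S') := fun hle =>
    IntermediateField.inclusion (IntermediateField.adjoin.mono k _ _ (Finset.coe_subset.mpr hle))
  have hpre : ∀ S, h ⁻¹' T = chg f (lev (k := k) K S).val ⁻¹' (pr f (lev (k := k) K S) ⁻¹' T) := fun S => by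
    ext z
    show h z ∈ T ↔ pr f (lev (k := k) K S) (chg f (lev (k := k) K S).val z) ∈ T
    rw [← Scheme.Hom.comp_apply, chg_fst]
  have hpre' : ∀ {S S'} (hle : S ≤ S'), pr f (lev (k := k) K S') ⁻¹' T = chg f (inc hle) ⁻¹' (pr f (lev (k := k) K S) ⁻¹' T) :=
    fun {S S'} hle => by
    ext z
    show pr f (lev (k := k) K S') z ∈ T ↔ pr f (lev (k := k) K S) (chg f (inc hle) z) ∈ T
    rw [← Scheme.Hom.comp_apply, chg_fst]
  let W : Tower π (Finset K) :=
    { Y := fun S => ↥(pr f (lev (k := k) K S) ⁻¹' T)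
      top := fun S => inferInstance
      p := fun S => restr (chg f (lev (k := k) K S).val) (hpre S)
      q := fun S => restr (pr f (lev (k := k) K S)) rfl
      r := fun hle => restr (chg f (inc hle)) (hpre' hle)
      qp := fun S z => Subtype.ext (by
        show pr f (lev (k := k) K S) (chg f (lev (k := k) K S).val z.1) = h z.1
        rw [← Scheme.Hom.comp_apply, chg_fst])
      rp := fun {S S'} hle z => Subtype.ext (by
        show chg f (inc hle) (chg f (lev (k := k) K S').val z.1) = chg f (lev (k := k) K S).val z.1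
        rw [← Scheme.Hom.comp_apply, chg_comp]
        rfl)
      p_proper := fun S => restr_proper _ (haveI := hchg S; Scheme.Hom.isProperMap _)
      p_surj := fun S => restr_surjective _ (chg_surjective f _).surj
      q_cont := fun S => (restr_proper _ (haveI := hqfin S; Scheme.Hom.isProperMap _)).continuous
      q_open := fun S => restr_open _ (Scheme.Hom.isOpenMap _)
      q_closed := fun S => (restr_proper _ (haveI := hqfin S; Scheme.Hom.isProperMap _)).isClosedMap
      q_fin := fun S t => by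
        haveI := hqfin S
        refine Set.Finite.of_finite_image (((pr f (lev (k := k) K S)).finite_preimage_singleton t.1).subset ?_)
          Subtype.val_injective.injOn
        rintro _ ⟨y, hy, rfl⟩
        exact congrArg Subtype.val hy
      q_incomp := fun S y y' hcl hq => by
        haveI := hqfin S
        apply Subtype.ext
        have hd := ((pr f (lev (k := k) K S)).isDiscrete_preimage_singleton (pr f (lev (k := k) K S) y.1)).to_subtype
        rw [closure_subtype, Set.image_singleton] at hcl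
        let a : ↥(pr f (lev (k := k) K S) ⁻¹' {pr f (lev (k := k) K S) y.1}) := ⟨y.1, rfl⟩
        let b : ↥(pr f (lev (k := k) K S) ⁻¹' {pr f (lev (k := k) K S) y.1}) := ⟨y'.1, congrArg Subtype.val hq⟩
        have : b ∈ closure {a} := by
          rw [closure_subtype, Set.image_singleton]; exact hcl
        rw [closure_discrete] at this
        have hab : b = a := this
        have hval := congrArg Subtype.val hab
        exact hval
      r_cont := fun hle => (chg f (inc hle)).continuous.subtype_map fun z hz => (hpre' hle).le hz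
      r_open := fun hle => restr_open _ (haveI := chg_universallyOpen f (inc hle); Scheme.Hom.isOpenMap _)
      sep := fun z w hzw => Subtype.ext (separated f K fun S => congrArg Subtype.val (hzw S))
      π_proper := restr_proper _ (haveI := hint; Scheme.Hom.isProperMap h) }
  have hbasis : ∀ t : T, ∃ V : Set T, IsOpen V ∧ t ∈ V ∧ IsCompact V := fun t => by
    obtain ⟨_, ⟨U, hU, rfl⟩, htU, -⟩ := X.isBasis_affineOpens.exists_subset_of_mem_open (Set.mem_univ t.1) isOpen_univ
    refine ⟨Subtype.val ⁻¹' (U : Set X), U.2.preimage continuous_subtype_val, htU, ?_⟩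
    rw [Subtype.isCompact_iff, Subtype.image_preimage_coe, Set.inter_comm]
    exact hU.isCompact.inter_right hTcl
  obtain ⟨x₀⟩ := (inferInstance : Nonempty X)
  obtain ⟨z₀, -⟩ := h.surjective x₀
  have hne : Nonempty ↥(BC f K) := ⟨z₀⟩
  have hu : ∀ S : Finset K, PreconnectedSpace ↥(pr f (lev (k := k) K S) ⁻¹' T) := fun S =>
    Subtype.preconnectedSpace (by
      haveI := hlev S
      simpa [T] using isPreconnected_univ)
  haveI : PreconnectedSpace ↥(BC f K) := by
    haveI := preconnectedSpace_of_levels W hbasis ⟨z₀, trivial⟩ hu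
    exact DenseRange.preconnectedSpace (f := fun z : (h ⁻¹' T) => (z : ↥(BC f K)))
      (Function.Surjective.denseRange fun z => ⟨⟨z, trivial⟩, rfl⟩) continuous_subtype_val
  exact { toNonempty := hne }

theorem gc_of_connected_sepClosure [ConnectedSpace ↥(BC f (SeparableClosure k))] : GeometricallyConnected f := by
  let φ : SeparableClosure k →ₐ[k] AlgebraicClosure k := IntermediateField.val _
  haveI : IsPurelyInseparable (SeparableClosure k) (AlgebraicClosure k) :=
    separableClosure.isPurelyInseparable k (AlgebraicClosure k)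
  haveI : UniversallyInjective (chg f φ) := MorphismProperty.of_isPullback (isPullback_chg f φ).flip
    (universallyInjective_specMap (SeparableClosure k) (AlgebraicClosure k))
  haveI := chg_surjective f φ
  haveI := chg_universallyOpen f φ
  let e := Equiv.ofBijective _ ⟨(chg f φ).injective, (chg f φ).surjective⟩
  let h : ↥(BC f (AlgebraicClosure k)) ≃ₜ ↥(BC f (SeparableClosure k)) :=
    e.toHomeomorphOfContinuousOpen (chg f φ).continuous (chg f φ).isOpenMap
  haveI : ConnectedSpace ↥(BC f (AlgebraicClosure k)) := h.connectedSpace_iff.mpr ‹_›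
  haveI := SweepSix.GeomConn.gc_of_isAlgClosed (k := AlgebraicClosure k)
    (pullback.snd f (Spec.map (CommRingCat.ofHom (algebraMap k (AlgebraicClosure k)))))
  exact SweepSix.GeomConn.gc_of_bc f (AlgebraicClosure k)

theorem gc_of_finite_separable (h : ∀ (k' : Type u) [Field k'] [Algebra k k'] [FiniteDimensional k k']
    [Algebra.IsSeparable k k'], ConnectedSpace ↥(BC f k')) : GeometricallyConnected f := by
  haveI : ConnectedSpace ↥(BC f (SeparableClosure k)) := connectedSpace_bc_of_levels f _ fun S => by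
    haveI : FiniteDimensional k (lev (k := k) (SeparableClosure k) S) :=
      IntermediateField.finiteDimensional_adjoin fun x _ => (Algebra.IsSeparable.isSeparable k x).isIntegral
    exact h (lev (k := k) (SeparableClosure k) S)
  exact gc_of_connected_sepClosure f

theorem connectedSpace_bc (K : Type u) [Field K] [Algebra k K] [GeometricallyConnected f] :
    ConnectedSpace ↥(BC f K) :=
  GeometricallyConnected.geometrically_connectedSpace _ _ _ (.of_hasPullback _ _)

end GeomIrrLib
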